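import Mathlib

/-!
Gluing infinitesimal lifts into a scheme locally of finite presentation: algebra.
-/

universe u

open TensorProduct

namespace GrothLib.LiftGlue30

theorem finitePresentation_of_lifting {A R B E : Type u} [CommRing A] [CommRing R] [Algebra A R]
    [CommRing B] [Algebra A B] [Algebra.FinitePresentation A B]
    [CommRing E] [Algebra A E] [Algebra R E] [IsScalarTower A R E]
    (huniq : ∀ (D : Type u) [CommRing D] [Algebra A D] (f g : R →ₐ[A] D), f = g)
    (ψ : B →ₐ[A] E) (hψ : Function.Surjective ψ) (ε : E →ₐ[R] R)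
    (hE : ∀ x y, ε x = 0 → ε y = 0 → x * y = 0)
    (H : ∀ (D : Type u) [CommRing D] [Algebra A D] [Algebra R D] [IsScalarTower A R D] (π : D →ₐ[R] R),
      (∀ x y, π x = 0 → π y = 0 → x * y = 0) → ∀ b : B →ₐ[A] D,
        (π.restrictScalars A).comp b = (ε.restrictScalars A).comp ψ →
          ∃ α : E →ₐ[A] D, α.comp ψ = b) :
    Module.FinitePresentation R E := by
  classical
  let Θ : R ⊗[A] B →ₐ[R] E :=
    Algebra.TensorProduct.lift (Algebra.ofId R E) ψ (fun _ _ => Commute.all _ _)
  have hΘ : Function.Surjective Θ := fun x => by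
    obtain ⟨b, rfl⟩ := hψ x
    exact ⟨1 ⊗ₜ b, by simp [Θ]⟩
  let εB : R ⊗[A] B →ₐ[R] R := ε.comp Θ
  have hεB : Function.Surjective εB := fun r => ⟨algebraMap R _ r, εB.commutes r⟩
  obtain ⟨G, hG⟩ := Algebra.FinitePresentation.ker_fG_of_surjective εB hεB
  let J : Ideal (R ⊗[A] B) := RingHom.ker εB.toRingHom
  have hJfg : J.FG := ⟨G, hG⟩
  let D := (R ⊗[A] B) ⧸ J ^ 2
  haveI : Algebra.FinitePresentation R D := Algebra.FinitePresentation.quotient (hJfg.pow)
  let mk : R ⊗[A] B →ₐ[R] D := Ideal.Quotient.mkₐ R (J ^ 2)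
  haveI : Module.Finite R D := by
    refine ⟨⟨insert 1 (G.image mk), eq_top_iff.mpr fun x _ => ?_⟩⟩
    obtain ⟨z, rfl⟩ := Ideal.Quotient.mk_surjective x
    change mk z ∈ _
    have hz : z - algebraMap R _ (εB z) ∈ J := by
      show εB _ = 0
      rw [map_sub, AlgHom.commutes]; simp
    suffices hJ : ∀ y ∈ J, mk y ∈ Submodule.span R (↑(insert 1 (G.image mk)) : Set D) by
      have := Submodule.add_mem _ (hJ _ hz) (Submodule.smul_mem _ (εB z)
        (Submodule.subset_span (s := (↑(insert 1 (G.image mk)) : Set D)) (Finset.mem_insert_self _ _)))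
      rwa [map_sub, AlgHom.commutes, Algebra.smul_def, mul_one, sub_add_cancel] at this
    intro y hy
    rw [show J = Ideal.span (G : Set (R ⊗[A] B)) from hG.symm] at hy
    induction hy using Submodule.span_induction with
    | mem y hy => exact Submodule.subset_span (Finset.mem_insert_of_mem (Finset.mem_image_of_mem _ hy))
    | zero => simp
    | add y y' _ _ h h' => rw [map_add]; exact Submodule.add_mem _ h h'
    | smul c y hy h =>
      have : mk (c • y) = εB c • mk y := by
        rw [← map_smul, ← sub_eq_zero, ← map_sub]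
        refine Ideal.Quotient.eq_zero_iff_mem.mpr ?_
        rw [smul_eq_mul, Algebra.smul_def, ← sub_mul, pow_two]
        refine Ideal.mul_mem_mul ?_ (show y ∈ J by rw [show J = Ideal.span (G : Set (R ⊗[A] B)) from hG.symm]; exact hy)
        show εB _ = 0
        rw [map_sub, AlgHom.commutes]; simp
      rw [this]
      exact Submodule.smul_mem _ _ h
  haveI := Module.FinitePresentation.of_finite_of_finitePresentation (R := R) (S := D)
  let π : D →ₐ[R] R := Ideal.Quotient.liftₐ (J ^ 2) εB fun x hx =>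
    Ideal.pow_le_self two_ne_zero hx
  have hπ : ∀ x y, π x = 0 → π y = 0 → x * y = 0 := fun x y hx hy => by
    obtain ⟨x, rfl⟩ := Ideal.Quotient.mk_surjective x
    obtain ⟨y, rfl⟩ := Ideal.Quotient.mk_surjective y
    rw [← map_mul, Ideal.Quotient.eq_zero_iff_mem, pow_two]
    exact Ideal.mul_mem_mul hx hy
  obtain ⟨α, hα⟩ := H D π hπ ((mk.restrictScalars A).comp Algebra.TensorProduct.includeRight)
    (AlgHom.ext fun b => by
      change εB (1 ⊗ₜ b) = ε (ψ b)
      simp [εB, Θ])
  let Θ' : D →ₐ[R] E := Ideal.Quotient.liftₐ (J ^ 2) Θ fun x hx => by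
    rw [pow_two] at hx
    induction hx using Submodule.mul_induction_on' with
    | mem_mul_mem a ha b hb => rw [map_mul]; exact hE _ _ ha hb
    | add a _ b _ ha hb => rw [map_add, ha, hb, add_zero]
  have hR : ∀ r, α (algebraMap R E r) = algebraMap R D r := fun r =>
    DFunLike.congr_fun (huniq D (α.comp (IsScalarTower.toAlgHom A R E)) (IsScalarTower.toAlgHom A R D)) r
  have hinv : ∀ x, α (Θ' x) = x := fun x => by
    obtain ⟨z, rfl⟩ := Ideal.Quotient.mk_surjective x
    change α (Θ z) = mk z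
    induction z with
    | zero => simp
    | add a b ha hb => rw [map_add, map_add, map_add, ha, hb]
    | tmul r b =>
      have hb : α (ψ b) = mk (1 ⊗ₜ b) := DFunLike.congr_fun hα b
      rw [show r ⊗ₜ[A] b = algebraMap R (R ⊗[A] B) r * (1 ⊗ₜ[A] b) by
        simp [Algebra.TensorProduct.algebraMap_apply], map_mul, map_mul, map_mul, AlgHom.commutes,
        AlgHom.commutes, hR, show Θ (1 ⊗ₜ b) = ψ b by simp [Θ], hb]
  exact Module.FinitePresentation.of_equiv (LinearEquiv.ofBijective Θ'.toLinearMap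
    ⟨Function.LeftInverse.injective hinv, fun x => by
      obtain ⟨z, rfl⟩ := hΘ x; exact ⟨Ideal.Quotient.mk _ z, rfl⟩⟩)

/-- A surjection onto a finitely presented module has a section if it has one locally. -/
theorem exists_section_of_local {R N P : Type u} [CommRing R] [AddCommGroup N] [Module R N]
    [AddCommGroup P] [Module R P] [Module.FinitePresentation R P] (r : N →ₗ[R] P)
    (s : Set R) (hs : Ideal.span s = ⊤)
    (h : ∀ g ∈ s, ∃ τ : P →ₗ[R] LocalizedModule (Submonoid.powers g) N, ∀ p : P, ∃ (n : N) (t : Submonoid.powers g),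
      τ p = LocalizedModule.mk n t ∧ r n = t • p) :
    ∃ σ : P →ₗ[R] N, r ∘ₗ σ = LinearMap.id := by
  classical
  let K : Ideal R :=
    { carrier := {a | ∃ σ : P →ₗ[R] N, r ∘ₗ σ = a • LinearMap.id}
      zero_mem' := ⟨0, by simp⟩
      add_mem' := fun {a b} ⟨σ, hσ⟩ ⟨σ', hσ'⟩ => ⟨σ + σ', by rw [LinearMap.comp_add, hσ, hσ', add_smul]⟩
      smul_mem' := fun c a ⟨σ, hσ⟩ => ⟨c • σ, by rw [LinearMap.comp_smul, hσ, smul_smul, smul_eq_mul]⟩ }
  obtain ⟨G, hG⟩ := (inferInstance : Module.Finite R P).fg_top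
  suffices hK : K = ⊤ by
    obtain ⟨σ, hσ⟩ := show (1 : R) ∈ K from hK ▸ Submodule.mem_top
    exact ⟨σ, by rw [hσ, one_smul]⟩
  refine Ideal.radical_eq_top.mp (top_le_iff.mp (hs ▸ Ideal.span_le.mpr fun g hg => ?_))
  obtain ⟨τ, hτ⟩ := h g hg
  obtain ⟨σ, t, hσ⟩ := Module.FinitePresentation.exists_lift_of_isLocalizedModule
    (Submonoid.powers g) (LocalizedModule.mkLinearMap _ N) τ
  have key : ∀ p, ∃ k : ℕ, g ^ k • r (σ p) = g ^ k • (t : R) • p := fun p => by
    obtain ⟨n, w, hn, hrn⟩ := hτ p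
    have h1 : LocalizedModule.mk (σ p) 1 = LocalizedModule.mk ((t : R) • n) w := by
      rw [← LocalizedModule.smul'_mk, ← hn]
      exact LinearMap.congr_fun hσ p
    obtain ⟨⟨_, k, rfl⟩, hk⟩ := LocalizedModule.mk_eq.mp h1
    obtain ⟨_, m, rfl⟩ := w
    simp only [Submonoid.smul_def, Submonoid.coe_one, one_smul] at hk hrn
    refine ⟨k + m, ?_⟩
    have h2 := congrArg r hk
    simp only [map_smul, hrn] at h2
    rw [pow_add, mul_smul, h2, mul_smul, smul_comm (t : R)]
  choose k hk using key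
  obtain ⟨_, m, rfl⟩ := t
  refine ⟨G.sup k + m, g ^ G.sup k • σ, ?_⟩
  refine LinearMap.ext_on (s := (G : Set P)) hG fun p hp => ?_
  have hle := Finset.le_sup (f := k) hp
  simp only [LinearMap.comp_apply, LinearMap.smul_apply, LinearMap.id_apply, map_smul]
  obtain ⟨d, hd⟩ := Nat.exists_eq_add_of_le hle
  rw [hd, pow_add g (k p) d, mul_comm, mul_smul, hk, smul_smul, smul_smul, ← pow_add, ← pow_add]
  congr 2
  omega

variable {A : Type u} [CommRing A] {I : Ideal A} {C : Type u} [CommRing C] [Algebra A C]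

/-- Local lifts of a square-zero augmentation give a global one. -/
theorem exists_retraction (φ : C →ₐ[A] A ⧸ I) (hN : ∀ x y, φ x = 0 → φ y = 0 → x * y = 0)
    [Module.FinitePresentation (A ⧸ I) (C ⧸ I.map (algebraMap A C))]
    {ι : Type u} (g : ι → A) (hspan : Ideal.span (Set.range g) = ⊤)
    (hlift : ∀ i, ∃ α : C →ₐ[A] Localization.Away (g i), ∀ c a, φ c = Ideal.Quotient.mk I a →
      α c - algebraMap A (Localization.Away (g i)) a ∈ I.map (algebraMap A (Localization.Away (g i)))) :
    ∃ s : C →ₐ[A] A, (Ideal.Quotient.mkₐ A I).comp s = φ := by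
  classical
  choose α hα using hlift
  let N : Submodule A C := LinearMap.ker φ.toLinearMap
  have hφI : ∀ a ∈ I, φ (algebraMap A C a) = 0 := fun a ha => by
    rw [AlgHom.commutes]; exact Ideal.Quotient.eq_zero_iff_mem.mpr ha
  have hIC : Module.IsTorsionBySet A N I := fun n ⟨i, hi⟩ => Subtype.ext <| by
    show i • (n : C) = 0
    rw [Algebra.smul_def]
    exact hN _ _ (hφI i hi) n.2
  letI : Module (A ⧸ I) N := hIC.module
  haveI : IsScalarTower A (A ⧸ I) N := hIC.isScalarTower
  let Q := (C ⧸ I.map (algebraMap A C)) ⧸ (1 : Submodule (A ⧸ I) (C ⧸ I.map (algebraMap A C)))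
  haveI : Module.FinitePresentation (A ⧸ I) Q :=
    Module.finitePresentation_of_surjective (Submodule.mkQ _) (Submodule.mkQ_surjective _)
      (by rw [Submodule.ker_mkQ, Submodule.one_eq_span]; exact Submodule.fg_span_singleton _)
  let r₀ : N →ₗ[A] Q := (Submodule.mkQ _).restrictScalars A ∘ₗ
    (Ideal.Quotient.mkₐ A (I.map (algebraMap A C))).toLinearMap ∘ₗ N.subtype
  let r : N →ₗ[A ⧸ I] Q := r₀.extendScalarsOfSurjective Ideal.Quotient.mk_surjective
  have hr : Function.Surjective r := fun x => by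
    obtain ⟨x, rfl⟩ := Submodule.Quotient.mk_surjective _ x
    obtain ⟨c, rfl⟩ := Ideal.Quotient.mk_surjective x
    obtain ⟨a, ha⟩ := Ideal.Quotient.mk_surjective (φ c)
    refine ⟨⟨c - algebraMap A C a, by
      show φ _ = 0
      rw [map_sub, AlgHom.commutes, ← ha]; exact sub_self _⟩, (Submodule.Quotient.eq _).mpr ?_⟩
    rw [Submodule.mem_one]
    exact ⟨Ideal.Quotient.mk I (-a), by simp⟩
  have hkerC : ∀ c ∈ I.map (algebraMap A C), ∃ a : A, algebraMap A C a = c := fun c hc => by
    induction hc using Submodule.span_induction with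
    | mem x hx => obtain ⟨a, -, rfl⟩ := hx; exact ⟨a, rfl⟩
    | zero => exact ⟨0, map_zero _⟩
    | add x y _ _ hx hy => obtain ⟨a, rfl⟩ := hx; obtain ⟨b, rfl⟩ := hy; exact ⟨a + b, map_add _ _ _⟩
    | smul x y hy ih =>
      obtain ⟨a, rfl⟩ := ih
      obtain ⟨b, hb⟩ := Ideal.Quotient.mk_surjective (φ x)
      refine ⟨b * a, ?_⟩
      have h0 := hN (x - algebraMap A C b) (algebraMap A C a)
        (by rw [map_sub, AlgHom.commutes, ← hb]; exact sub_self _)
        ((Ideal.map_le_iff_le_comap (K := RingHom.ker φ.toRingHom)).mpr hφI hy)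
      rw [smul_eq_mul, map_mul]
      linear_combination -h0
  have hker : ∀ n : N, r n = 0 → ∃ a ∈ I, algebraMap A C a = n := fun n hn => by
    obtain ⟨a, ha⟩ := Submodule.mem_one.mp ((Submodule.Quotient.mk_eq_zero _).mp hn)
    obtain ⟨a, rfl⟩ := Ideal.Quotient.mk_surjective a
    obtain ⟨b, hb⟩ := hkerC ((n : C) - algebraMap A C a) (Ideal.Quotient.eq.mp ha.symm)
    refine ⟨b + a, ?_, by rw [map_add, hb, sub_add_cancel]⟩
    have := n.2
    rw [LinearMap.mem_ker, AlgHom.toLinearMap_apply,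
      show (n : C) = algebraMap A C (b + a) by rw [map_add, hb, sub_add_cancel], AlgHom.commutes] at this
    exact Ideal.Quotient.eq_zero_iff_mem.mp this
  have hinj : ∀ a : A, algebraMap A C a = 0 → a = 0 := fun a ha => by
    let K : Ideal A := LinearMap.ker (LinearMap.toSpanSingleton A A a)
    suffices K = ⊤ by
      have h1 : (1 : A) ∈ K := this ▸ Submodule.mem_top
      simpa [K] using h1
    refine Ideal.radical_eq_top.mp (top_le_iff.mp (hspan ▸ Ideal.span_le.mpr ?_))
    rintro _ ⟨i, rfl⟩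
    have h' := congrArg (α i) ha
    rw [AlgHom.commutes, map_zero] at h'
    obtain ⟨⟨_, k, rfl⟩, hk⟩ := (IsLocalization.map_eq_zero_iff (Submonoid.powers (g i)) _ a).mp h'
    exact ⟨k, hk⟩
  -- local sections
  have hloc : ∀ (i : ι), ∀ n : N, ∃ (a : A) (k : ℕ), a ∈ I ∧
      α i n * algebraMap A (Localization.Away (g i)) (g i ^ k) = algebraMap A _ a := fun i n => by
    have h0 := hα i n 0 (n.2.trans (map_zero _).symm)
    rw [map_zero, sub_zero] at h0
    obtain ⟨⟨a, ⟨_, k, rfl⟩⟩, hd⟩ := (IsLocalization.mem_map_algebraMap_iff (Submonoid.powers (g i)) _).mp h0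
    exact ⟨a.1, k, a.2, hd⟩
  choose a k haI ha using hloc
  have hv : ∀ i (n : N) (a' : A) (k' : ℕ) (ha' : a' ∈ I),
      α i n * algebraMap A (Localization.Away (g i)) (g i ^ k') = algebraMap A _ a' →
      LocalizedModule.mk (g i ^ k i n • n - (⟨algebraMap A C (a i n), hφI _ (haI i n)⟩ : N))
          (⟨Ideal.Quotient.mk I (g i) ^ k i n, k i n, rfl⟩ : Submonoid.powers (Ideal.Quotient.mk I (g i))) =
        LocalizedModule.mk (g i ^ k' • n - (⟨algebraMap A C a', hφI _ ha'⟩ : N))
          (⟨Ideal.Quotient.mk I (g i) ^ k', k', rfl⟩ : Submonoid.powers (Ideal.Quotient.mk I (g i))) := by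
    intro i n a' k' ha' h'
    have h1 : algebraMap A (Localization.Away (g i)) (g i ^ k' * a i n) = algebraMap A _ (g i ^ k i n * a') := by
      rw [map_mul, map_mul, ← ha i n, ← h']; ring
    obtain ⟨⟨_, l, rfl⟩, hl⟩ := (IsLocalization.eq_iff_exists (Submonoid.powers (g i)) _).mp h1
    refine LocalizedModule.mk_eq.mpr ⟨⟨Ideal.Quotient.mk I (g i) ^ l, l, rfl⟩, ?_⟩
    simp only [Submonoid.smul_def, ← map_pow, ← Ideal.Quotient.algebraMap_eq, algebraMap_smul]
    refine Subtype.ext ?_
    simp only [Submodule.coe_smul, AddSubgroupClass.coe_sub, Algebra.smul_def]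
    have hl' := congrArg (algebraMap A C) hl
    simp only [map_mul, map_pow] at hl' ⊢
    linear_combination -hl'
  have hτ : ∀ i, ∃ τ : N →ₗ[A ⧸ I] LocalizedModule (Submonoid.powers (Ideal.Quotient.mk I (g i))) N,
      ∀ n, τ n = LocalizedModule.mk (g i ^ k i n • n - (⟨algebraMap A C (a i n), hφI _ (haI i n)⟩ : N))
          (⟨Ideal.Quotient.mk I (g i) ^ k i n, k i n, rfl⟩ : Submonoid.powers (Ideal.Quotient.mk I (g i))) :=
    fun i => ⟨{
      toFun := fun n => LocalizedModule.mk (g i ^ k i n • n - (⟨algebraMap A C (a i n), hφI _ (haI i n)⟩ : N))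
          (⟨Ideal.Quotient.mk I (g i) ^ k i n, k i n, rfl⟩ : Submonoid.powers (Ideal.Quotient.mk I (g i)))
      map_add' := fun n n' => by
        rw [LocalizedModule.mk_add_mk, hv i (n + n') (g i ^ k i n' * a i n + g i ^ k i n * a i n') (k i n + k i n')
          (add_mem (I.mul_mem_left _ (haI i n)) (I.mul_mem_left _ (haI i n'))) (by
            rw [Submodule.coe_add, map_add, map_add, map_mul, map_mul, ← ha i n, ← ha i n']
            simp only [map_pow, map_mul, pow_add]; ring)]
        congr 1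
        · simp only [Submonoid.smul_def, ← map_pow, ← Ideal.Quotient.algebraMap_eq, algebraMap_smul]
          refine Subtype.ext ?_
          simp only [Submodule.coe_smul, Submodule.coe_add, AddSubgroupClass.coe_sub, Algebra.smul_def,
            map_add, map_mul, map_pow]
          ring
        · exact Subtype.ext (pow_add _ _ _)
      map_smul' := fun b n => by
        obtain ⟨b, rfl⟩ := Ideal.Quotient.mk_surjective b
        rw [RingHom.id_apply, LocalizedModule.smul'_mk, hv i _ (b * a i n) (k i n) (I.mul_mem_left _ (haI i n)) (by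
          rw [show ((Ideal.Quotient.mk I b • n : N) : C) = b • (n : C) from rfl, map_smul, Algebra.smul_def,
            map_mul, ← ha i n, mul_assoc])]
        congr 1
        rw [← Ideal.Quotient.algebraMap_eq, algebraMap_smul, algebraMap_smul]
        refine Subtype.ext ?_
        simp only [Submodule.coe_smul, AddSubgroupClass.coe_sub, Algebra.smul_def, map_mul]
        ring }, fun _ => rfl⟩
  choose τ hτ using hτ
  obtain ⟨σ, hσ⟩ := exists_section_of_local r (Set.range fun i => Ideal.Quotient.mk I (g i))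
    (by rw [Set.range_comp', ← Ideal.map_span, hspan, Ideal.map_top]) (by
      rintro _ ⟨i, rfl⟩
      have hle : LinearMap.ker r ≤ LinearMap.ker (τ i) := fun n hn => by
        obtain ⟨b, hb, hbn⟩ := hker n hn
        rw [LinearMap.mem_ker, hτ, hv i n b 0 hb (by rw [← hbn, AlgHom.commutes, pow_zero, map_one, mul_one]),
          show g i ^ 0 • n - (⟨algebraMap A C b, hφI _ hb⟩ : N) = 0 from Subtype.ext (by simp [hbn]),
          LocalizedModule.zero_mk]
      refine ⟨((LinearMap.ker r).liftQ (τ i) hle) ∘ₗ (r.quotKerEquivOfSurjective hr).symm.toLinearMap,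
        fun p => ?_⟩
      obtain ⟨n, rfl⟩ := hr p
      refine ⟨g i ^ k i n • n - (⟨algebraMap A C (a i n), hφI _ (haI i n)⟩ : N),
        (⟨Ideal.Quotient.mk I (g i) ^ k i n, k i n, rfl⟩ : Submonoid.powers (Ideal.Quotient.mk I (g i))), ?_, ?_⟩
      · rw [LinearMap.comp_apply, LinearEquiv.coe_coe, show (r.quotKerEquivOfSurjective hr).symm (r n) =
          Submodule.Quotient.mk n from (LinearEquiv.symm_apply_eq _).mpr rfl]
        exact hτ i n
      · rw [map_sub, show r ⟨algebraMap A C (a i n), hφI _ (haI i n)⟩ = 0 from ?_, sub_zero,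
          Submonoid.smul_def]
        · rw [← algebraMap_smul (A ⧸ I), map_smul, map_pow, Ideal.Quotient.algebraMap_eq]
        · refine (Submodule.Quotient.mk_eq_zero _).mpr (Submodule.mem_one.mpr ⟨Ideal.Quotient.mk I (a i n), ?_⟩)
          rfl)
  have hrσ : ∀ p, r (σ p) = p := fun p => LinearMap.congr_fun hσ p
  let M : Ideal C :=
    { carrier := Set.range fun p => (σ p : C)
      zero_mem' := ⟨0, by simp⟩
      add_mem' := by rintro _ _ ⟨p, rfl⟩ ⟨p', rfl⟩; exact ⟨p + p', by simp⟩
      smul_mem' := by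
        rintro c _ ⟨p, rfl⟩
        obtain ⟨b, hb⟩ := Ideal.Quotient.mk_surjective (φ c)
        refine ⟨Ideal.Quotient.mk I b • p, ?_⟩
        show ((σ (Ideal.Quotient.mk I b • p) : N) : C) = c • (σ p : C)
        rw [map_smul, show ((Ideal.Quotient.mk I b • σ p : N) : C) = b • (σ p : C) from rfl,
          Algebra.smul_def, smul_eq_mul]
        have h0 := hN (c - algebraMap A C b) (σ p) (by rw [map_sub, AlgHom.commutes, ← hb]; exact sub_self _) (σ p).2
        linear_combination -h0 }
  have hbij : Function.Bijective (Algebra.ofId A (C ⧸ M)) := by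
    refine ⟨(injective_iff_map_eq_zero _).mpr fun b hb => hinj b ?_, fun x => ?_⟩
    · obtain ⟨p, hp⟩ := Ideal.Quotient.eq_zero_iff_mem.mp hb
      have hbI : b ∈ I := Ideal.Quotient.eq_zero_iff_mem.mp (by
        rw [← Ideal.Quotient.algebraMap_eq, ← φ.commutes, ← hp]
        exact (σ p).2)
      have h1 : r (σ p) = 0 := (Submodule.Quotient.mk_eq_zero _).mpr
        (Submodule.mem_one.mpr ⟨Ideal.Quotient.mk I b, by
          show Ideal.Quotient.mk _ (algebraMap A C b) = Ideal.Quotient.mk _ (σ p : C)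
          exact congrArg _ hp.symm⟩)
      rw [hrσ] at h1
      rw [← hp, h1]; simp
    · obtain ⟨c, rfl⟩ := Ideal.Quotient.mk_surjective x
      obtain ⟨b, hb⟩ := Ideal.Quotient.mk_surjective (φ c)
      let n : N := ⟨c - algebraMap A C b, by
        show φ _ = 0
        rw [map_sub, AlgHom.commutes, ← hb]; exact sub_self _⟩
      obtain ⟨b', -, hb'⟩ := hker (n - σ (r n)) (by rw [map_sub, hrσ, sub_self])
      refine ⟨b + b', Ideal.Quotient.eq.mpr ?_⟩
      refine ⟨- r n, ?_⟩
      show ((σ (- r n) : N) : C) = algebraMap A C (b + b') - c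
      rw [map_neg, map_add, hb', AddSubgroupClass.coe_sub, Submodule.coe_neg]
      show -((σ (r n) : N) : C) = algebraMap A C b + (c - algebraMap A C b - (σ (r n) : C)) - c
      ring
  let e := AlgEquiv.ofBijective (Algebra.ofId A (C ⧸ M)) hbij
  refine ⟨e.symm.toAlgHom.comp (Ideal.Quotient.mkₐ A M), AlgHom.ext fun c => ?_⟩
  obtain ⟨b, hb⟩ : ∃ b, e.symm (Ideal.Quotient.mk M c) = b := ⟨_, rfl⟩
  show Ideal.Quotient.mk I (e.symm (Ideal.Quotient.mk M c)) = φ c
  rw [hb]
  obtain ⟨p, hp⟩ := Ideal.Quotient.eq.mp ((e.symm_apply_eq).mp hb)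
  have h0 := congrArg φ hp
  rw [show φ (σ p : C) = 0 from (σ p).2, map_sub, AlgHom.commutes] at h0
  exact (sub_eq_zero.mp h0.symm).symm

end GrothLib.LiftGlue30
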