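import Groth.Agent.Lib.SmoothLocal6.Geometry
import Groth.Agent.Lib.LiftGlue30.Algebra

/-!
Gluing infinitesimal lifts into a scheme locally of finite presentation: geometry.
-/

universe u

open AlgebraicGeometry CategoryTheory Limits GrothLib.SmoothLocal6

namespace GrothLib.LiftGlue30

/-- The core of the construction: an affine thickening containing all infinitesimal deformations of
a section. -/
theorem exists_algebra_immersion {A : Type u} [CommRing A] (I : Ideal A) {P : Scheme.{u}}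
    (q : P ⟶ Spec (CommRingCat.of A)) (σ : Spec (CommRingCat.of (A ⧸ I)) ⟶ P)
    (hσ : σ ≫ q = Spec.map (CommRingCat.ofHom (Ideal.Quotient.mk I))) :
    ∃ (C : Type u) (_ : CommRing C) (_ : Algebra A C) (φ : C →ₐ[A] A ⧸ I)
      (ι : Spec (CommRingCat.of C) ⟶ P), Function.Surjective φ ∧
      (∀ x y, φ x = 0 → φ y = 0 → x * y = 0) ∧
      Spec.map (CommRingCat.ofHom φ.toRingHom) ≫ ι = σ ∧
      ι ≫ q = Spec.map (CommRingCat.ofHom (algebraMap A C)) ∧
      Surjective (Spec.map (CommRingCat.ofHom φ.toRingHom)) ∧ IsImmersion ι ∧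
      ∀ (T T'' : CommRingCat.{u}) (π : T ⟶ T'') (_ : Function.Surjective π.hom) (J : Ideal T)
        (_ : J * J = ⊥) (_ : RingHom.ker π.hom ≤ J) (β : CommRingCat.of C ⟶ T'')
        (_ : ∀ n, φ n = 0 → β.hom n ∈ J.map π.hom) (m : Spec T ⟶ P)
        (_ : Spec.map π ≫ m = Spec.map β ≫ ι),
        ∃ α : CommRingCat.of C ⟶ T, α ≫ π = β ∧ Spec.map α ≫ ι = m := by
  have hc : IsClosedImmersion (σ ≫ q) := by
    rw [hσ]; exact IsClosedImmersion.spec_of_surjective _ Ideal.Quotient.mk_surjective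
  have : IsImmersion (σ ≫ q) := inferInstance
  have : IsImmersion σ := IsImmersion.of_comp σ q
  let σ' := σ.liftCoborder
  let W := σ.coborderRange
  let K := σ'.ker
  let ιZ := (K ^ 2).subschemeι
  have hle : ιZ.ker ≤ σ'.ker := by
    rw [Scheme.IdealSheafData.ker_subschemeι]; exact pow_two_le_self _
  let j := IsClosedImmersion.lift ιZ σ' hle
  have hj : j ≫ ιZ = σ' := IsClosedImmersion.lift_fac _ _ _
  have hjc : IsClosedImmersion (j ≫ ιZ) := by rw [hj]; infer_instance
  have : IsClosedImmersion j := IsClosedImmersion.of_comp j ιZ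
  have : Surjective j := ⟨fun z => by
    have hz : ιZ z ∈ ((K ^ 2).support : Set _) :=
      Scheme.IdealSheafData.range_subschemeι (K ^ 2) ▸ ⟨z, rfl⟩
    rw [Scheme.IdealSheafData.support_pow _ 2 two_ne_zero] at hz
    have hz' : ιZ z ∈ Set.range σ' := by
      rw [σ'.support_ker] at hz
      exact σ'.isClosedEmbedding.isClosed_range.closure_subset hz
    obtain ⟨y, hy⟩ := hz'
    exact ⟨y, ιZ.isClosedEmbedding.injective (by rw [← hy, ← hj]; rfl)⟩⟩
  have : IsAffine (K ^ 2).subscheme := GrothLib.Thickening.isAffine_of_thickening j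
  let Z := (K ^ 2).subscheme
  obtain ⟨φ₀, hφ₀⟩ := Spec.map_surjective (j ≫ Z.isoSpec.hom)
  obtain ⟨γ, hγ⟩ := Spec.map_surjective (Z.isoSpec.inv ≫ ιZ ≫ W.ι ≫ q)
  have hγφ : γ ≫ φ₀ = CommRingCat.ofHom (Ideal.Quotient.mk I) := Spec.map_injective (by
    rw [Spec.map_comp, hφ₀, hγ, Category.assoc, Iso.hom_inv_id_assoc, reassoc_of% hj,
      Scheme.Hom.liftCoborder_ι_assoc, hσ])
  have hφs : Function.Surjective φ₀.hom := fun x => by
    obtain ⟨a, rfl⟩ := Ideal.Quotient.mk_surjective x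
    exact ⟨γ.hom a, congr($(hγφ).hom a)⟩
  let N₀ := RingHom.ker φ₀.hom
  letI : Algebra A (Γ(Z, ⊤) ⧸ N₀ * N₀) := ((Ideal.Quotient.mk (N₀ * N₀)).comp γ.hom).toAlgebra
  let φ : (Γ(Z, ⊤) ⧸ N₀ * N₀) →ₐ[A] A ⧸ I :=
    { toRingHom := Ideal.Quotient.lift (N₀ * N₀) φ₀.hom fun x hx =>
        RingHom.mem_ker.mp (Ideal.mul_le_left hx)
      commutes' := fun a => congr($(hγφ).hom a) }
  let mkC : Γ(Z, ⊤) ⟶ CommRingCat.of (Γ(Z, ⊤) ⧸ N₀ * N₀) := CommRingCat.ofHom (Ideal.Quotient.mk _)
  have hmkφ : mkC ≫ CommRingCat.ofHom φ.toRingHom = φ₀ := rfl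
  refine ⟨_, _, _, φ, Spec.map mkC ≫ Z.isoSpec.inv ≫ ιZ ≫ W.ι, ?_, ?_, ?_, ?_, ?_, ?_, ?_⟩
  · exact fun x => by obtain ⟨y, rfl⟩ := hφs x; exact ⟨Ideal.Quotient.mk _ y, rfl⟩
  · intro x y hx hy
    obtain ⟨x, rfl⟩ := Ideal.Quotient.mk_surjective x
    obtain ⟨y, rfl⟩ := Ideal.Quotient.mk_surjective y
    rw [← map_mul, Ideal.Quotient.eq_zero_iff_mem]
    exact Ideal.mul_mem_mul hx hy
  · rw [← Spec.map_comp_assoc, hmkφ, hφ₀, Category.assoc, Iso.hom_inv_id_assoc, reassoc_of% hj]
    exact σ.liftCoborder_ι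
  · simp only [Category.assoc]
    rw [← hγ, ← Spec.map_comp]
    rfl
  · refine ⟨fun x => ?_⟩
    have hx : RingHom.ker φ.toRingHom ≤ x.asIdeal := fun y hy => x.isPrime.mem_of_pow_mem 2 (by
      obtain ⟨y, rfl⟩ := Ideal.Quotient.mk_surjective y
      rw [← map_pow, Ideal.Quotient.eq_zero_iff_mem.mpr]
      · exact zero_mem _
      · rw [pow_two]; exact Ideal.mul_mem_mul hy hy)
    have : x ∈ Set.range (PrimeSpectrum.comap φ.toRingHom) := by
      rw [range_comap_of_surjective _ _ (fun x => by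
        obtain ⟨y, rfl⟩ := hφs x; exact ⟨Ideal.Quotient.mk _ y, rfl⟩)]
      exact hx
    exact this
  · haveI : IsClosedImmersion (Spec.map mkC) :=
      IsClosedImmersion.spec_of_surjective _ (fun x => by
        obtain ⟨x, rfl⟩ := Ideal.Quotient.mk_surjective x; exact ⟨x, rfl⟩)
    infer_instance
  intro T T'' π hπ J hJ hkJ β hβ m hm
  obtain ⟨α₀, hα₁, hα₂, hα₃⟩ := exists_lift_thickening Z.isoSpec ιZ W.ι σ' φ₀ hφs
    (by rw [hφ₀, Category.assoc, Iso.hom_inv_id_assoc, hj])
    (by rw [Scheme.IdealSheafData.ker_subschemeι, pow_two]) π hπ J hJ hkJ (mkC ≫ β)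
    (fun n hn => hβ _ hn) m (by rw [hm, Spec.map_comp_assoc])
  refine ⟨CommRingCat.ofHom (Ideal.Quotient.lift (N₀ * N₀) α₀.hom hα₃), ?_, ?_⟩
  · ext x
    exact congr($(hα₁).hom x)
  · rw [← Spec.map_comp_assoc]
    exact hα₂


theorem surjective_of_isClosedImmersion_specMap {R S : CommRingCat.{u}} (f : R ⟶ S)
    [IsClosedImmersion (Spec.map f)] : Function.Surjective f.hom := fun y => by
  obtain ⟨x, hx⟩ := (IsClosedImmersion.isAffine_surjective_of_isAffine (Spec.map f)).2
    ((Scheme.ΓSpecIso S).inv y)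
  refine ⟨(Scheme.ΓSpecIso R).hom x, ?_⟩
  have h := congr($(Scheme.ΓSpecIso_naturality f).hom x)
  simp only [CommRingCat.hom_comp, RingHom.comp_apply] at h
  rw [← h]
  erw [hx]
  exact congr($((Scheme.ΓSpecIso S).inv_hom_id).hom y)

/-- The chart data: `C ⧸ I C` is finitely presented near every prime. -/
theorem exists_fp_chart {A : Type u} [CommRing A] (I : Ideal A) {P : Scheme.{u}}
    (q : P ⟶ Spec (CommRingCat.of A)) [LocallyOfFinitePresentation q]
    (σ : Spec (CommRingCat.of (A ⧸ I)) ⟶ P)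
    (hσ : σ ≫ q = Spec.map (CommRingCat.ofHom (Ideal.Quotient.mk I)))
    {C : Type u} [CommRing C] [Algebra A C] (φ : C →ₐ[A] A ⧸ I)
    (hN : ∀ x y, φ x = 0 → φ y = 0 → x * y = 0)
    (ι : Spec (CommRingCat.of C) ⟶ P) [IsImmersion ι]
    (hισ : Spec.map (CommRingCat.ofHom φ.toRingHom) ≫ ι = σ)
    (hιq : ι ≫ q = Spec.map (CommRingCat.ofHom (algebraMap A C)))
    (Hι : ∀ (T T'' : CommRingCat.{u}) (π : T ⟶ T'') (_ : Function.Surjective π.hom) (J : Ideal T)
        (_ : J * J = ⊥) (_ : RingHom.ker π.hom ≤ J) (β : CommRingCat.of C ⟶ T'')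
        (_ : ∀ n, φ n = 0 → β.hom n ∈ J.map π.hom) (m : Spec T ⟶ P)
        (_ : Spec.map π ≫ m = Spec.map β ≫ ι),
        ∃ α : CommRingCat.of C ⟶ T, α ≫ π = β ∧ Spec.map α ≫ ι = m)
    (y : PrimeSpectrum (A ⧸ I)) :
    ∃ h : A ⧸ I, h ∉ y.asIdeal ∧
      letI := (Localization.awayMap (algebraMap (A ⧸ I) (C ⧸ I.map (algebraMap A C))) h).toAlgebra
      Module.FinitePresentation (Localization.Away h)
        (Localization.Away (algebraMap (A ⧸ I) (C ⧸ I.map (algebraMap A C)) h)) := by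
  classical
  let Ā := A ⧸ I
  let C' := C ⧸ I.map (algebraMap A C)
  obtain ⟨_, ⟨V, hV, rfl⟩, hyV, -⟩ :=
    P.isBasis_affineOpens.exists_subset_of_mem_open (Set.mem_univ (σ y)) isOpen_univ
  obtain ⟨_, ⟨h, rfl⟩, hyh, hhV⟩ := PrimeSpectrum.isTopologicalBasis_basic_opens
    |>.exists_subset_of_mem_open (show y ∈ ((σ ⁻¹ᵁ V).carrier : Set (PrimeSpectrum (A ⧸ I))) from hyV)
      (σ ⁻¹ᵁ V).isOpen
  obtain ⟨g, rfl⟩ := Ideal.Quotient.mk_surjective h
  obtain ⟨γ, hγ⟩ := Spec.map_surjective (hV.fromSpec ≫ q)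
  have hγfp : γ.hom.FinitePresentation :=
    (HasRingHomProperty.Spec_iff (P := @LocallyOfFinitePresentation)).mp (hγ ▸ inferInstance)
  letI : Algebra A Γ(P, V) := γ.hom.toAlgebra
  haveI : Algebra.FinitePresentation A Γ(P, V) := hγfp
  let B := Localization.Away (algebraMap A Γ(P, V) g)
  haveI : Algebra.FinitePresentation Γ(P, V) B :=
    IsLocalization.Away.finitePresentation (algebraMap A Γ(P, V) g)
  haveI : Algebra.FinitePresentation A B := Algebra.FinitePresentation.trans A Γ(P, V) B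
  refine ⟨Ideal.Quotient.mk I g, hyh, ?_⟩
  let hh := Ideal.Quotient.mk I g
  let R := Localization.Away hh
  let E := Localization.Away (algebraMap Ā C' hh)
  letI : Algebra R E := (Localization.awayMap (algebraMap Ā C') hh).toAlgebra
  have hRE : ∀ x, algebraMap R E (algebraMap Ā R x) = algebraMap C' E (algebraMap Ā C' x) := fun x =>
    IsLocalization.map_eq (g := algebraMap Ā C') (M := Submonoid.powers hh)
      (T := Submonoid.powers (algebraMap Ā C' hh)) (Submonoid.powers_le.mpr ⟨1, pow_one _⟩) x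
  haveI : IsScalarTower A R E := IsScalarTower.of_algebraMap_eq fun a => by
    rw [IsScalarTower.algebraMap_apply A Ā R, hRE, ← IsScalarTower.algebraMap_apply A Ā C',
      ← IsScalarTower.algebraMap_apply A C' E]
  let φ' : C' →ₐ[A] Ā := Ideal.Quotient.liftₐ (I.map (algebraMap A C)) φ fun x hx =>
    (Ideal.map_le_iff_le_comap (K := RingHom.ker φ.toRingHom)).mpr (fun a ha => by
      show φ _ = 0
      rw [AlgHom.commutes]; exact Ideal.Quotient.eq_zero_iff_mem.mpr ha) hx
  have hφ' : ∀ x : Ā, φ' (algebraMap Ā C' x) = x := fun x => by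
    obtain ⟨a, rfl⟩ := Ideal.Quotient.mk_surjective x
    exact φ.commutes a
  have hunit : IsUnit ((algebraMap Ā R).comp φ'.toRingHom (algebraMap Ā C' hh)) := by
    rw [RingHom.comp_apply]; erw [hφ']
    exact IsLocalization.Away.algebraMap_isUnit hh
  let ε₀ : E →+* R := IsLocalization.Away.lift _ hunit
  have hε₀ : ∀ c, ε₀ (algebraMap C' E c) = algebraMap Ā R (φ' c) := fun c => IsLocalization.Away.lift_eq _ _ c
  let ε : E →ₐ[R] R := ⟨ε₀, fun r => by
    refine congrFun (congrArg DFunLike.coe (IsLocalization.ringHom_ext (Submonoid.powers hh)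
      (j := ε₀.comp (algebraMap R E)) (k := RingHom.id R) (RingHom.ext fun x => ?_))) r
    show ε₀ (algebraMap R E (algebraMap Ā R x)) = algebraMap Ā R x
    rw [hRE, hε₀, hφ']⟩
  have hε₀s : Function.Surjective ε₀ := fun r => ⟨algebraMap R E r, ε.commutes r⟩
  have hE : ∀ x y, ε₀ x = 0 → ε₀ y = 0 → x * y = 0 := by
    have key : ∀ x, ε₀ x = 0 → ∃ c : C', φ' c = 0 ∧ ∃ u : E, x = u * algebraMap C' E c := fun x hx => by
      obtain ⟨k, c, hc⟩ := IsLocalization.Away.surj (algebraMap Ā C' hh) x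
      have h0 := congrArg ε₀ hc
      rw [map_mul, hx, zero_mul, hε₀] at h0
      obtain ⟨⟨_, l, rfl⟩, hl⟩ := (IsLocalization.map_eq_zero_iff (Submonoid.powers hh) R _).mp h0.symm
      refine ⟨algebraMap Ā C' (hh ^ l) * c, by rw [map_mul, hφ']; exact hl, ?_⟩
      obtain ⟨w, hw⟩ := ((IsLocalization.Away.algebraMap_isUnit (S := E) (algebraMap Ā C' hh)).pow (k + l)).exists_left_inv
      refine ⟨w, ?_⟩
      rw [map_pow, map_mul, map_pow, ← hc]
      linear_combination (-x) * hw
    intro x y hx hy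
    obtain ⟨c, hc, u, rfl⟩ := key x hx
    obtain ⟨c', hc', u', rfl⟩ := key y hy
    obtain ⟨c, rfl⟩ := Ideal.Quotient.mk_surjective c
    obtain ⟨c', rfl⟩ := Ideal.Quotient.mk_surjective c'
    rw [mul_mul_mul_comm, ← map_mul, ← map_mul, hN c c' hc hc', map_zero, map_zero, mul_zero]
  let u := Spec.map (CommRingCat.ofHom (algebraMap C E))
  let εC : CommRingCat.of E ⟶ CommRingCat.of R := CommRingCat.ofHom ε₀
  let j₀ : CommRingCat.of Γ(P, V) ⟶ CommRingCat.of B := CommRingCat.ofHom (algebraMap Γ(P, V) B)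
  haveI : IsOpenImmersion (Spec.map j₀) := IsOpenImmersion.of_isLocalization (algebraMap A Γ(P, V) g)
  let j := Spec.map j₀ ≫ hV.fromSpec
  have hjq : j ≫ q = Spec.map (CommRingCat.ofHom (algebraMap A B)) := by
    rw [Category.assoc, ← hγ, ← Spec.map_comp]; rfl
  have hεu : Spec.map εC ≫ u ≫ ι = Spec.map (CommRingCat.ofHom (algebraMap Ā R)) ≫ σ := by
    rw [← hισ, ← Spec.map_comp_assoc, ← Spec.map_comp_assoc]
    exact congrArg (fun r => Spec.map r ≫ ι) (CommRingCat.hom_ext (RingHom.ext fun c =>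
      (congrArg ε₀ (IsScalarTower.algebraMap_apply C C' E c)).trans (hε₀ _)))
  have hsurj : Surjective (Spec.map εC) :=
    SmoothLocal6.surjective_specMap_of_nilpotent εC hε₀s (RingHom.ker ε₀) (le_bot_iff.mp
      (Ideal.mul_le.mpr fun x hx y hy => (Ideal.mem_bot).mpr (hE x y hx hy))) le_rfl
  haveI := hsurj
  have hrange : Set.range (u ≫ ι) ⊆ Set.range j := by
    rintro _ ⟨w, rfl⟩
    obtain ⟨z, rfl⟩ := (Spec.map εC).surjective w
    rw [← Scheme.Hom.comp_apply, hεu, Scheme.Hom.comp_apply]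
    let z' : PrimeSpectrum Ā := Spec.map (CommRingCat.ofHom (algebraMap Ā R)) z
    have hz : z' ∈ PrimeSpectrum.basicOpen hh := fun hm =>
      z.isPrime.ne_top (Ideal.eq_top_of_isUnit_mem _ hm (IsLocalization.Away.algebraMap_isUnit hh))
    change σ z' ∈ _
    obtain ⟨v, hv⟩ : σ z' ∈ Set.range hV.fromSpec := by rw [hV.range_fromSpec]; exact hhV hz
    have hvg : v ∈ Set.range (Spec.map j₀) := by
      erw [PrimeSpectrum.localization_away_comap_range B (algebraMap A Γ(P, V) g)]
      intro hm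
      have h1 : q (hV.fromSpec v) = Spec.map (CommRingCat.ofHom (Ideal.Quotient.mk I)) z' := by
        rw [hv, ← Scheme.Hom.comp_apply, hσ]
      rw [← Scheme.Hom.comp_apply, ← hγ] at h1
      exact hz (show g ∈ (Spec.map (CommRingCat.ofHom (Ideal.Quotient.mk I)) z').asIdeal from h1 ▸ hm)
    obtain ⟨b, rfl⟩ := hvg
    exact ⟨b, hv⟩
  let v := IsOpenImmersion.lift j (u ≫ ι) hrange
  have hvj : v ≫ j = u ≫ ι := IsOpenImmersion.lift_fac _ _ _
  haveI : IsImmersion (v ≫ j) := by
    rw [hvj]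
    let u₁ := Spec.map (CommRingCat.ofHom (algebraMap C C'))
    let u₂ := Spec.map (CommRingCat.ofHom (algebraMap C' E))
    haveI : IsClosedImmersion u₁ := IsClosedImmersion.spec_of_surjective _ Ideal.Quotient.mk_surjective
    haveI : IsOpenImmersion u₂ := IsOpenImmersion.of_isLocalization (algebraMap Ā C' hh)
    have hu : u = u₂ ≫ u₁ := by
      rw [← Spec.map_comp]; rfl
    rw [hu]
    infer_instance
  haveI : IsImmersion v := IsImmersion.of_comp v j
  obtain ⟨ψ₀, hψ₀⟩ := Spec.map_surjective v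
  have hψA : CommRingCat.ofHom (algebraMap A B) ≫ ψ₀ = CommRingCat.ofHom (algebraMap A E) := by
    apply Spec.map_injective
    rw [Spec.map_comp, hψ₀, ← hjq, reassoc_of% hvj, hιq, ← Spec.map_comp]
    exact congrArg Spec.map (CommRingCat.hom_ext (IsScalarTower.algebraMap_eq A C E).symm)
  let ψ : B →ₐ[A] E := ⟨ψ₀.hom, fun a => congr($(hψA).hom a)⟩
  haveI : IsClosedImmersion (Spec.map (ψ₀ ≫ εC)) := IsClosedImmersion.spec_of_surjective _ fun r => by
    obtain ⟨k, x, hx⟩ := IsLocalization.Away.surj hh r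
    obtain ⟨a, rfl⟩ := Ideal.Quotient.mk_surjective x
    obtain ⟨w, hw⟩ := ((IsLocalization.Away.algebraMap_isUnit (S := B) (algebraMap A Γ(P, V) g)).pow k).exists_left_inv
    refine ⟨w * algebraMap A B a, ?_⟩
    let σB : B →ₐ[A] R := (ε.restrictScalars A).comp ψ
    show σB _ = r
    have hw' := congrArg σB hw
    rw [map_mul, map_one, map_pow, ← IsScalarTower.algebraMap_apply A Γ(P, V) B, σB.commutes] at hw'
    rw [map_mul, σB.commutes, IsScalarTower.algebraMap_apply A Ā R, Ideal.Quotient.algebraMap_eq, ← hx]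
    rw [IsScalarTower.algebraMap_apply A Ā R, Ideal.Quotient.algebraMap_eq] at hw'
    linear_combination r * hw'
  haveI : IsClosedImmersion v := by
    refine IsClosedImmersion.of_isPreimmersion v ?_
    have : Set.range v = Set.range (Spec.map εC ≫ v) := by
      rw [Scheme.Hom.comp_base, TopCat.coe_comp, (Spec.map εC).surjective.range_comp]
    rw [this, ← hψ₀, ← Spec.map_comp]
    exact (Spec.map (ψ₀ ≫ εC)).isClosedEmbedding.isClosed_range
  haveI : IsClosedImmersion (Spec.map ψ₀) := hψ₀ ▸ inferInstance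
  refine LiftGlue30.finitePresentation_of_lifting ?_ ψ (surjective_of_isClosedImmersion_specMap ψ₀)
    ε hE ?_
  · intro D _ _ f₁ f₂
    exact AlgHom.coe_ringHom_injective (IsLocalization.ringHom_ext (Submonoid.powers hh)
      (Ideal.Quotient.ringHom_ext (RingHom.ext fun a => (f₁.commutes a).trans (f₂.commutes a).symm)))
  intro D _ _ _ _ π hπ b hb
  let πC : CommRingCat.of D ⟶ CommRingCat.of R := CommRingCat.ofHom π.toRingHom
  let bC : CommRingCat.of B ⟶ CommRingCat.of D := CommRingCat.ofHom b.toRingHom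
  have hbπ : bC ≫ πC = ψ₀ ≫ εC := CommRingCat.hom_ext (RingHom.ext fun x => DFunLike.congr_fun hb x)
  obtain ⟨α, -, hαm⟩ := Hι _ _ πC (fun r => ⟨algebraMap R D r, π.commutes r⟩) (RingHom.ker π.toRingHom)
    (le_bot_iff.mp (Ideal.mul_le.mpr fun x hx y hy => (Ideal.mem_bot).mpr (hπ x y hx hy))) le_rfl
    (CommRingCat.ofHom ((algebraMap Ā R).comp φ.toRingHom))
    (fun n hn => by simp [hn]) (Spec.map bC ≫ j) (by
      rw [← Spec.map_comp_assoc, hbπ, Spec.map_comp_assoc, hψ₀, hvj, hεu, CommRingCat.ofHom_comp φ.toRingHom (algebraMap Ā R),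
        Spec.map_comp_assoc, hισ])
  have hαA : CommRingCat.ofHom (algebraMap A C) ≫ α = CommRingCat.ofHom (algebraMap A D) := by
    apply Spec.map_injective
    rw [Spec.map_comp, ← hιq, reassoc_of% hαm, hjq, ← Spec.map_comp]
    exact congrArg Spec.map (CommRingCat.hom_ext (RingHom.ext fun a => b.commutes a))
  let αA : C →ₐ[A] D := ⟨α.hom, fun a => congr($(hαA).hom a)⟩
  let α' : C' →ₐ[A] D := Ideal.Quotient.liftₐ (I.map (algebraMap A C)) αA fun x hx =>
    (Ideal.map_le_iff_le_comap (K := RingHom.ker αA.toRingHom)).mpr (fun a ha => by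
      show αA _ = 0
      rw [AlgHom.commutes, IsScalarTower.algebraMap_apply A R D, IsScalarTower.algebraMap_apply A Ā R,
        Ideal.Quotient.algebraMap_eq, Ideal.Quotient.eq_zero_iff_mem.mpr ha, map_zero, map_zero]) hx
  have hu' : IsUnit (α'.toRingHom (algebraMap Ā C' hh)) := by
    change IsUnit (α' (algebraMap A C' g))
    rw [AlgHom.commutes, IsScalarTower.algebraMap_apply A R D, IsScalarTower.algebraMap_apply A Ā R]
    exact (IsLocalization.Away.algebraMap_isUnit hh).map _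
  let αE₀ : E →+* D := IsLocalization.Away.lift _ hu'
  have hαE : ∀ c, αE₀ (algebraMap C' E c) = α' c := fun c => IsLocalization.Away.lift_eq _ _ c
  refine ⟨⟨αE₀, fun a => by
    show αE₀ (algebraMap A E a) = _
    rw [IsScalarTower.algebraMap_apply A C' E, hαE, AlgHom.commutes]⟩, ?_⟩
  have h1 : Spec.map (CommRingCat.ofHom αE₀) ≫ v = Spec.map bC := by
    rw [← cancel_mono j, Category.assoc, hvj, ← hαm, ← Spec.map_comp_assoc]
    exact congrArg (fun r => Spec.map r ≫ ι) (CommRingCat.hom_ext (RingHom.ext fun c =>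
      (congrArg αE₀ (IsScalarTower.algebraMap_apply C C' E c)).trans (hαE _)))
  rw [← hψ₀, ← Spec.map_comp] at h1
  exact AlgHom.ext fun x => congr($(Spec.map_injective h1).hom x)

/-- Local lifts along a square zero thickening of an affine scheme glue, for targets locally of
finite presentation. -/
theorem exists_lift_spec_of_local {X S : Scheme.{u}} (f : X ⟶ S) [LocallyOfFinitePresentation f]
    {A : Type u} [CommRing A] (I : Ideal A) (a : Spec (CommRingCat.of A) ⟶ S)
    (a₀ : Spec (CommRingCat.of (A ⧸ I)) ⟶ X)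
    (w : a₀ ≫ f = Spec.map (CommRingCat.ofHom (Ideal.Quotient.mk I)) ≫ a) (hI : I * I = ⊥)
    (hloc : ∀ p : PrimeSpectrum A, ∃ g : A, g ∉ p.asIdeal ∧
      ∃ b : Spec (CommRingCat.of (Localization.Away g)) ⟶ X,
        b ≫ f = Spec.map (CommRingCat.ofHom (algebraMap A (Localization.Away g))) ≫ a ∧
        Spec.map (CommRingCat.ofHom (Ideal.Quotient.mk (I.map (algebraMap A (Localization.Away g))))) ≫ b =
          Spec.map (CommRingCat.ofHom (Ideal.quotientMap (I.map (algebraMap A (Localization.Away g)))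
            (algebraMap A (Localization.Away g)) Ideal.le_comap_map)) ≫ a₀) :
    ∃ b' : Spec (CommRingCat.of A) ⟶ X, b' ≫ f = a ∧
      Spec.map (CommRingCat.ofHom (Ideal.Quotient.mk I)) ≫ b' = a₀ := by
  classical
  let σ := pullback.lift a₀ (Spec.map (CommRingCat.ofHom (Ideal.Quotient.mk I))) w
  have hσ : σ ≫ pullback.snd f a = _ := pullback.lift_snd _ _ _
  haveI : LocallyOfFinitePresentation (pullback.snd f a) :=
    MorphismProperty.pullback_snd (P := @LocallyOfFinitePresentation) _ _ inferInstance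
  obtain ⟨C, _, _, φ, ι, hφ, hN, hισ, hιq, -, _, Hι⟩ :=
    exists_algebra_immersion I (pullback.snd f a) σ hσ
  let C' := C ⧸ I.map (algebraMap A C)
  haveI : Module.FinitePresentation (A ⧸ I) C' := by
    have hch := exists_fp_chart I (pullback.snd f a) σ hσ φ hN ι hισ hιq Hι
    choose h hh hfp using hch
    let s : Set (A ⧸ I) := Set.range h
    have hs : Ideal.span s = ⊤ := by
      by_contra hne
      obtain ⟨m, hm, hle⟩ := Ideal.exists_le_maximal _ hne
      exact hh ⟨m, hm.isPrime⟩ (hle (Ideal.subset_span ⟨_, rfl⟩))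
    letI ialg : ∀ r : s, Algebra (Localization.Away r.1) (Localization.Away (algebraMap (A ⧸ I) C' r.1)) :=
      fun r => (Localization.awayMap (algebraMap (A ⧸ I) C') r.1).toAlgebra
    haveI itow : ∀ r : s, IsScalarTower (A ⧸ I) (Localization.Away r.1) (Localization.Away (algebraMap (A ⧸ I) C' r.1)) :=
      fun r => IsScalarTower.of_algebraMap_eq fun x => by
        rw [IsScalarTower.algebraMap_apply (A ⧸ I) C' (Localization.Away (algebraMap (A ⧸ I) C' r.1))]
        symm
        exact IsLocalization.map_eq (g := algebraMap (A ⧸ I) C') (M := Submonoid.powers r.1)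
          (T := Submonoid.powers (algebraMap (A ⧸ I) C' r.1)) (Submonoid.powers_le.mpr ⟨1, pow_one _⟩) x
    haveI iloc : ∀ r : s, IsLocalizedModule (Submonoid.powers r.1)
        (IsScalarTower.toAlgHom (A ⧸ I) C' (Localization.Away (algebraMap (A ⧸ I) C' r.1))).toLinearMap :=
      fun r => (isLocalizedModule_iff_isLocalization (S := Submonoid.powers r.1) (A := C')
        (Aₛ := Localization.Away (algebraMap (A ⧸ I) C' r.1))).mpr (by
        rw [Algebra.algebraMapSubmonoid_powers]; infer_instance)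
    refine Module.FinitePresentation.of_localizationSpan' s hs
      (Rₚ := fun r : s => Localization.Away r.1)
      (fun r : s => (IsScalarTower.toAlgHom (A ⧸ I) C' (Localization.Away (algebraMap (A ⧸ I) C' r.1))).toLinearMap) ?_
    rintro ⟨_, p, rfl⟩
    exact hfp p
  choose g hg b hbf hb₀ using hloc
  have hspan : Ideal.span (Set.range g) = ⊤ := by
    by_contra hne
    obtain ⟨m, hm, hle⟩ := Ideal.exists_le_maximal _ hne
    exact hg ⟨m, hm.isPrime⟩ (hle (Ideal.subset_span ⟨_, rfl⟩))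
  obtain ⟨s, hs⟩ := LiftGlue30.exists_retraction φ hN g hspan (fun p => by
    let T := Localization.Away (g p)
    let J := I.map (algebraMap A T)
    let k := Ideal.quotientMap J (algebraMap A T) Ideal.le_comap_map
    obtain ⟨α, hα, hαm⟩ := Hι (CommRingCat.of T) (CommRingCat.of (T ⧸ J))
      (CommRingCat.ofHom (Ideal.Quotient.mk J)) Ideal.Quotient.mk_surjective J
      (by rw [← Ideal.map_mul, hI, Ideal.map_bot]) (by rw [CommRingCat.hom_ofHom, Ideal.mk_ker])
      (CommRingCat.ofHom (k.comp φ.toRingHom)) (fun n hn => by simp [hn])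
      (pullback.lift (b p) _ (hbf p)) (by
        rw [CommRingCat.ofHom_comp φ.toRingHom k, Spec.map_comp_assoc, hισ]
        apply pullback.hom_ext
        · simp only [σ, Category.assoc, pullback.lift_fst]
          exact hb₀ p
        · simp only [σ, Category.assoc, pullback.lift_snd, ← Spec.map_comp]
          rfl)
    have hαA : CommRingCat.ofHom (algebraMap A C) ≫ α = CommRingCat.ofHom (algebraMap A T) := by
      apply Spec.map_injective
      rw [Spec.map_comp, ← hιq, reassoc_of% hαm, pullback.lift_snd]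
    refine ⟨⟨α.hom, fun x => congr($(hαA).hom x)⟩, fun c x hc => Ideal.Quotient.eq.mp ?_⟩
    have h1 := congr($(hα).hom c)
    change Ideal.Quotient.mk J (α.hom c) = k (φ c) at h1
    rw [hc] at h1
    exact h1)
  refine ⟨Spec.map (CommRingCat.ofHom s.toRingHom) ≫ ι ≫ pullback.fst f a, ?_, ?_⟩
  · simp only [Category.assoc]
    rw [pullback.condition, reassoc_of% hιq, ← Spec.map_comp_assoc,
      show CommRingCat.ofHom (algebraMap A C) ≫ CommRingCat.ofHom s.toRingHom = 𝟙 _ from
        CommRingCat.hom_ext (RingHom.ext fun x => s.commutes x), Spec.map_id, Category.id_comp]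
  · rw [← Spec.map_comp_assoc,
      show CommRingCat.ofHom s.toRingHom ≫ CommRingCat.ofHom (Ideal.Quotient.mk I) =
        CommRingCat.ofHom φ.toRingHom from CommRingCat.hom_ext (RingHom.ext fun x => congr($hs x)),
      reassoc_of% hισ, pullback.lift_fst]

end GrothLib.LiftGlue30
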